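import Mathlib.Algebra.Homology.Refinements
import Mathlib.Algebra.Homology.Embedding.CochainComplex
import Mathlib.CategoryTheory.Abelian.CommSq
import Mathlib.CategoryTheory.Abelian.Refinements
import Mathlib.CategoryTheory.Limits.Preserves.Shapes.Biproducts

/-!
# Factoring maps of bounded above complexes

A map `φ : K ⟶ L` of complexes vanishing above `b` is a termwise split mono `K ⟶ K'` with cokernel
terms in a class `P` with enough objects, followed by a termwise epi quasi-isomorphism `K' ⟶ L`.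
-/

set_option autoImplicit false

open CategoryTheory CategoryTheory.Limits

namespace Groth.Agent.CplxFactor

universe v u

variable {A : Type u} [Category.{v} A] [Abelian A] {P : A → Prop} {K L : CochainComplex A ℤ}

variable (P) in
/-- One degree of the factorisation. -/
structure Data (φ : K ⟶ L) (q : ℤ) where
  /-- the new summand -/
  W : A
  mem : P W
  /-- the map to the target -/
  f : K.X q ⊞ W ⟶ L.X q
  inl_f : biprod.inl ≫ f = φ.f q
  /-- the cycles -/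
  Z : A
  /-- the inclusion of the cycles -/
  z : Z ⟶ K.X q ⊞ W
  mono_z : Mono z
  z_d : z ≫ f ≫ L.d q (q + 1) = 0
  /-- the incoming differential of `K` lands in the cycles -/
  kz : K.X (q - 1) ⟶ Z
  kz_z : kz ≫ z = K.d (q - 1) q ≫ biprod.inl
  surj : ∀ {T : A} (x : T ⟶ L.X q), x ≫ L.d q (q + 1) = 0 →
    ∃ (T' : A) (e : T' ⟶ T) (_ : Epi e) (y : T' ⟶ Z), y ≫ z ≫ f = e ≫ x

variable {φ : K ⟶ L}

/-- Two consecutive degrees. -/
def Link {p q : ℤ} (D' : Data P φ p) (D : Data P φ q) : Prop :=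
  ∃ g : K.X p ⊞ D'.W ⟶ D.Z,
    g ≫ D.z ≫ D.f = D'.f ≫ L.d p q ∧
    biprod.inl ≫ g ≫ D.z = K.d p q ≫ biprod.inl ∧
    (∃ w : D'.z ≫ g = 0, (ShortComplex.mk D'.z g w).Exact) ∧
    Epi D'.f ∧
    ∀ {T : A} (y : T ⟶ D.Z) (x : T ⟶ L.X p), y ≫ D.z ≫ D.f = x ≫ L.d p q →
      ∃ (T' : A) (e : T' ⟶ T) (_ : Epi e) (w : T' ⟶ K.X p ⊞ D'.W), w ≫ g = e ≫ y

lemma exists_next (hcov : ∀ X : A, ∃ (W : A) (π : W ⟶ X), P W ∧ Epi π) {p q : ℤ} (hpq : p + 1 = q)
    (D : Data P φ q) : ∃ D' : Data P φ p, Link D' D := by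
  obtain rfl : p = q - 1 := by omega
  have := D.mono_z
  let Pb := pullback (D.z ≫ D.f) (L.d (q - 1) q)
  obtain ⟨W, π, hW, hπ⟩ := hcov Pb
  let g : K.X (q - 1) ⊞ W ⟶ D.Z := biprod.desc D.kz (π ≫ pullback.fst _ _)
  let f : K.X (q - 1) ⊞ W ⟶ L.X (q - 1) := biprod.desc (φ.f (q - 1)) (π ≫ pullback.snd _ _)
  have hgf : g ≫ D.z ≫ D.f = f ≫ L.d (q - 1) q := by
    refine biprod.hom_ext' _ _ ?_ ?_
    · simp only [g, f, biprod.inl_desc_assoc]
      rw [reassoc_of% D.kz_z, D.inl_f, φ.comm]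
    · simp only [g, f, biprod.inr_desc_assoc, Category.assoc, pullback.condition]
  have hlift : ∀ {T : A} (y : T ⟶ D.Z) (x : T ⟶ L.X (q - 1)), y ≫ D.z ≫ D.f = x ≫ L.d (q - 1) q →
      ∃ (T' : A) (e : T' ⟶ T) (_ : Epi e) (w : T' ⟶ K.X (q - 1) ⊞ W), w ≫ g = e ≫ y ∧ w ≫ f = e ≫ x := by
    intro T y x h
    obtain ⟨T', e, he, w, hw⟩ := surjective_up_to_refinements_of_epi π (pullback.lift y x h)
    refine ⟨T', e, he, w ≫ biprod.inr, ?_, ?_⟩
    · simp only [g, Category.assoc, biprod.inr_desc, ← reassoc_of% hw, pullback.lift_fst]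
    · simp only [f, Category.assoc, biprod.inr_desc, ← reassoc_of% hw, pullback.lift_snd]
  have hkz : (K.d (q - 1 - 1) (q - 1) ≫ biprod.inl) ≫ g = 0 := by
    rw [← cancel_mono D.z, zero_comp]
    simp only [g, Category.assoc, biprod.inl_desc_assoc, D.kz_z, HomologicalComplex.d_comp_d_assoc,
      zero_comp]
  have hsurj : ∀ {T : A} (x : T ⟶ L.X (q - 1)), x ≫ L.d (q - 1) (q - 1 + 1) = 0 →
      ∃ (T' : A) (e : T' ⟶ T) (_ : Epi e) (y : T' ⟶ kernel g), y ≫ kernel.ι g ≫ f = e ≫ x := by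
    intro T x hx
    obtain ⟨T', e, he, w, hw, hw'⟩ := hlift (0 : T ⟶ D.Z) x (by
      have e : q - 1 + 1 = q := by omega
      rw [e] at hx
      rw [zero_comp, hx])
    exact ⟨T', e, he, kernel.lift g w (by rw [hw, comp_zero]), by rw [kernel.lift_ι_assoc, hw']⟩
  let D' : Data P φ (q - 1) :=
    { W := W
      mem := hW
      f := f
      inl_f := biprod.inl_desc _ _
      Z := kernel g
      z := kernel.ι g
      mono_z := inferInstance
      z_d := by
        have e : q - 1 + 1 = q := by omega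
        rw [e, ← hgf, kernel.condition_assoc, zero_comp]
      kz := kernel.lift g _ hkz
      kz_z := kernel.lift_ι _ _ _
      surj := hsurj }
  refine ⟨D', g, hgf, ?_, ⟨kernel.condition g, ShortComplex.exact_of_f_is_kernel _ (kernelIsKernel g)⟩,
    ?_, fun {T} y x h => ?_⟩
  · simp only [g, biprod.inl_desc_assoc, D.kz_z]
  · rw [epi_iff_surjective_up_to_refinements]
    intro T x
    obtain ⟨T₁, e₁, he₁, y, hy⟩ := D.surj (x ≫ L.d (q - 1) q) (by simp)
    obtain ⟨T₂, e₂, he₂, w, -, hw⟩ := hlift y (e₁ ≫ x) (by rw [hy, Category.assoc])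
    exact ⟨T₂, e₂ ≫ e₁, epi_comp _ _, w, by rw [Category.assoc]; exact hw.symm⟩
  · obtain ⟨T', e, he, w, hw, -⟩ := hlift y x h
    exact ⟨T', e, he, w, hw⟩

lemma exists_seq (hP0 : ∃ Z : A, IsZero Z ∧ P Z)
    (hcov : ∀ X : A, ∃ (W : A) (π : W ⟶ X), P W ∧ Epi π)
    (φ : K ⟶ L) (b : ℤ) [K.IsStrictlyLE b] [L.IsStrictlyLE b] :
    ∃ D : ∀ q : ℤ, Data P φ q, (∀ q, Link (D q) (D (q + 1))) ∧ ∀ q, b < q → IsZero (D q).W := by
  obtain ⟨Z₀, hZ₀, hPZ₀⟩ := hP0
  let triv : ∀ q, b < q → Data P φ q := fun q hq =>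
    { W := Z₀
      mem := hPZ₀
      f := biprod.desc (φ.f q) 0
      inl_f := biprod.inl_desc _ _
      Z := K.X q ⊞ Z₀
      z := 𝟙 _
      mono_z := inferInstance
      z_d := (L.isZero_of_isStrictlyLE b (q + 1) (by omega)).eq_of_tgt _ _
      kz := K.d (q - 1) q ≫ biprod.inl
      kz_z := Category.comp_id _
      surj := fun {T} x _ => ⟨T, 𝟙 T, inferInstance, 0,
        (L.isZero_of_isStrictlyLE b q hq).eq_of_tgt _ _⟩ }
  have next_ : ∀ (p q : ℤ) (h : p + 1 = q) (D : Data P φ q), ∃ D' : Data P φ p, Link D' D :=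
    fun p q h D => exists_next hcov h D
  choose nxt hnxt using next_
  let seq : ∀ k : ℕ, Data P φ (b + 1 - k) := fun k =>
    Nat.rec (motive := fun k => Data P φ (b + 1 - k)) (triv _ (by simp))
      (fun k D => nxt (b + 1 - ((k + 1 : ℕ) : ℤ)) (b + 1 - (k : ℤ)) (by omega) D) k
  let cast_ : ∀ {p q : ℤ}, p = q → Data P φ p → Data P φ q := fun h D => h ▸ D
  let D : ∀ q : ℤ, Data P φ q := fun q =>
    if h : b < q then triv q h else cast_ (by omega) (seq (b + 1 - q).toNat)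
  have hD : ∀ (k : ℕ), D (b + 1 - k) = seq k := by
    intro k
    rcases k with _ | k
    · simp only [D]
      rw [dif_pos (by simp)]
      rfl
    · simp only [D]
      rw [dif_neg (by omega)]
      have key : ∀ (m : ℕ) (e : b + 1 - (m : ℤ) = b + 1 - ((k + 1 : ℕ) : ℤ)), m = k + 1 →
          cast_ e (seq m) = seq (k + 1) := by
        rintro m e rfl
        rfl
      exact key _ _ (by omega)
  refine ⟨D, fun q => ?_, fun q hq => ?_⟩
  · by_cases hq : b < q
    · show Link (D q) (D (q + 1))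
      simp only [D, dif_pos hq, dif_pos (show b < q + 1 by omega)]
      have hz : IsZero (K.X (q + 1) ⊞ Z₀) :=
        biprod_isZero_iff _ _ |>.2 ⟨K.isZero_of_isStrictlyLE b (q + 1) (by omega), hZ₀⟩
      have hz' : IsZero (K.X q ⊞ Z₀) :=
        biprod_isZero_iff _ _ |>.2 ⟨K.isZero_of_isStrictlyLE b q hq, hZ₀⟩
      exact ⟨0, (L.isZero_of_isStrictlyLE b (q + 1) (by omega)).eq_of_tgt _ _, hz.eq_of_tgt _ _,
        ⟨comp_zero, ShortComplex.exact_of_isZero_X₂ _ hz'⟩,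
        ⟨fun g h _ => (L.isZero_of_isStrictlyLE b q hq).eq_of_src g h⟩,
        fun {T} y x _ => ⟨T, 𝟙 T, inferInstance, 0, hz.eq_of_tgt _ _⟩⟩
    · obtain ⟨k, rfl⟩ : ∃ k : ℕ, q = b + 1 - ((k + 1 : ℕ) : ℤ) := ⟨(b - q).toNat, by omega⟩
      have h1 : b + 1 - ((k + 1 : ℕ) : ℤ) + 1 = b + 1 - (k : ℤ) := by omega
      rw [h1, hD, hD]
      exact hnxt _ _ _ _
  · simp only [D, dif_pos hq]
    exact hZ₀

/-- Factorisation of a map of bounded above complexes. -/
theorem exists_factor (hP0 : ∃ Z : A, IsZero Z ∧ P Z)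
    (hcov : ∀ X : A, ∃ (W : A) (π : W ⟶ X), P W ∧ Epi π)
    (φ : K ⟶ L) (b : ℤ) [K.IsStrictlyLE b] [L.IsStrictlyLE b] :
    ∃ (K' : CochainComplex A ℤ) (j : K ⟶ K') (π : K' ⟶ L), K'.IsStrictlyLE b ∧ j ≫ π = φ ∧
      QuasiIso π ∧ (∀ i, Epi (π.f i)) ∧
      ∀ i, ∃ (W : A) (e : K'.X i ≅ K.X i ⊞ W), P W ∧ j.f i ≫ e.hom = biprod.inl := by
  obtain ⟨D, hD, hD0⟩ := exists_seq hP0 hcov φ b
  choose g hgf hinl hex hepi hinj using hD
  choose w hexact using hex
  have hmono : ∀ q, Mono (D q).z := fun q => (D q).mono_z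
  let K' : CochainComplex A ℤ := CochainComplex.of (fun q => K.X q ⊞ (D q).W)
    (fun q => g q ≫ (D (q + 1)).z)
    (fun q => by rw [Category.assoc, reassoc_of% (w (q + 1)), zero_comp, comp_zero])
  have hd : ∀ q, K'.d q (q + 1) = g q ≫ (D (q + 1)).z := fun q =>
    CochainComplex.of_d (fun q => K.X q ⊞ (D q).W) (fun q => g q ≫ (D (q + 1)).z) q
  let j : K ⟶ K' :=
    { f := fun q => biprod.inl
      comm' := fun i k hik => by
        change i + 1 = k at hik
        subst hik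
        exact ((congrArg (biprod.inl ≫ ·) (hd i)).trans (hinl i)) }
  let π : K' ⟶ L :=
    { f := fun q => (D q).f
      comm' := fun i k hik => by
        change i + 1 = k at hik
        subst hik
        exact ((hgf i).symm.trans ((Category.assoc _ _ _).symm.trans
          (congrArg (· ≫ (D (i + 1)).f) (hd i).symm))) }
  refine ⟨K', j, π, ?_, ?_, ?_, hepi, fun i => ⟨(D i).W, Iso.refl _, (D i).mem, Category.comp_id _⟩⟩
  · exact (K'.isStrictlyLE_iff b).2 fun i hi =>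
      biprod_isZero_iff _ _ |>.2 ⟨K.isZero_of_isStrictlyLE b i hi, hD0 i hi⟩
  · ext q
    exact (D q).inl_f
  rw [quasiIso_iff]
  intro k
  obtain ⟨p, rfl⟩ : ∃ p, k = p + 1 := ⟨k - 1, by omega⟩
  rw [quasiIsoAt_iff_isIso_homologyMap]
  have hcyc : ∀ {T : A} (y : T ⟶ K.X (p + 1) ⊞ (D (p + 1)).W), y ≫ K'.d (p + 1) (p + 1 + 1) = 0 →
      ∃ y₁ : T ⟶ (D (p + 1)).Z, y₁ ≫ (D (p + 1)).z = y := by
    intro T y hy
    rw [hd] at hy
    have := hmono (p + 1 + 1)
    have h0 : y ≫ g (p + 1) = 0 := zero_of_comp_mono _ ((Category.assoc _ _ _).trans hy)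
    have : Mono (ShortComplex.mk (D (p + 1)).z (g (p + 1)) (w (p + 1))).f := hmono (p + 1)
    exact ⟨(hexact (p + 1)).lift y h0, (hexact (p + 1)).lift_f y h0⟩
  have : Mono (HomologicalComplex.homologyMap π (p + 1)) := by
    rw [HomologicalComplex.mono_homologyMap_iff_up_to_refinements π p (p + 1) (p + 1 + 1)
      (by simp) (by simp)]
    intro T y hy x hx
    obtain ⟨y₁, hy₁⟩ := hcyc y hy
    obtain ⟨T', e, he, v, hv⟩ := hinj p y₁ x (by rw [reassoc_of% hy₁]; exact hx)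
    refine ⟨T', e, he, v, ?_⟩
    rw [hd]
    refine Eq.trans ?_ (Category.assoc v (g p) _)
    rw [hv, Category.assoc, hy₁]
  have : Epi (HomologicalComplex.homologyMap π (p + 1)) := by
    rw [HomologicalComplex.epi_homologyMap_iff_up_to_refinements π p (p + 1) (p + 1 + 1)
      (by simp) (by simp)]
    intro T x hx
    obtain ⟨T', e, he, y, hy⟩ := (D (p + 1)).surj x hx
    refine ⟨T', e, he, y ≫ (D (p + 1)).z, ?_, 0, ?_⟩
    · rw [hd]
      refine (Category.assoc _ _ _).trans ?_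
      rw [reassoc_of% (w (p + 1))]
      simp
    · rw [zero_comp, add_zero]
      exact hy.symm.trans (Category.assoc _ _ _).symm
  exact isIso_of_mono_of_epi _

end Groth.Agent.CplxFactor
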