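import Groth.Agent.CplxFactor.Basic
import Groth.Agent.KFlat.Colim
import Mathlib.CategoryTheory.Functor.OfSequence

/-!
# A system of bounded above resolutions of the canonical truncations
-/

set_option autoImplicit false

open CategoryTheory CategoryTheory.Limits HomologicalComplex ZeroObject

namespace Groth.Agent.CplxFactor

universe v u

variable {A : Type u} [Category.{v} A] [Abelian A] {P : A → Prop} (G : CochainComplex A ℤ)

/-- The transition map between truncations. -/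
noncomputable def tr (n : ℕ) : G.truncLE ((n : ℤ) + 1) ⟶ G.truncLE (((n + 1 : ℕ) : ℤ) + 1) :=
  haveI : (G.truncLE ((n : ℤ) + 1)).IsStrictlyLE (((n + 1 : ℕ) : ℤ) + 1) :=
    CochainComplex.isStrictlyLE_of_le _ ((n : ℤ) + 1) _ (by omega)
  inv ((G.truncLE ((n : ℤ) + 1)).ιTruncLE (((n + 1 : ℕ) : ℤ) + 1)) ≫
    CochainComplex.truncLEMap (G.ιTruncLE ((n : ℤ) + 1)) (((n + 1 : ℕ) : ℤ) + 1)

lemma tr_ι (n : ℕ) :
    tr G n ≫ G.ιTruncLE (((n + 1 : ℕ) : ℤ) + 1) = G.ιTruncLE ((n : ℤ) + 1) := by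
  simp [tr, CochainComplex.ιTruncLE_naturality]

variable (P) in
/-- A stage of the system. -/
structure Stage (n : ℕ) where
  K : CochainComplex A ℤ
  le : K.IsStrictlyLE ((n : ℤ) + 1)
  q : K ⟶ G.truncLE ((n : ℤ) + 1)
  qi : QuasiIso q
  epi : ∀ i, Epi (q.f i)
  mem : ∀ i, P (K.X i)

/-- The relation between consecutive stages. -/
def StageLink {n : ℕ} (S : Stage P G n) (T : Stage P G (n + 1)) : Prop :=
  ∃ j : S.K ⟶ T.K, j ≫ T.q = S.q ≫ tr G n ∧
    ∀ i, ∃ (W : A) (e : T.K.X i ≅ S.K.X i ⊞ W), P W ∧ j.f i ≫ e.hom = biprod.inl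

variable (hP0 : ∃ Z : A, IsZero Z ∧ P Z) (hcov : ∀ X : A, ∃ (W : A) (π : W ⟶ X), P W ∧ Epi π)
  (hiso : ∀ {X Y : A}, (X ≅ Y) → P X → P Y) (hadd : ∀ X Y : A, P X → P Y → P (X ⊞ Y))

include hP0 hcov hiso hadd in
lemma exists_stage_succ {n : ℕ} (S : Stage P G n) : ∃ T : Stage P G (n + 1), StageLink G S T := by
  have := S.le
  have : S.K.IsStrictlyLE (((n + 1 : ℕ) : ℤ) + 1) :=
    CochainComplex.isStrictlyLE_of_le _ ((n : ℤ) + 1) _ (by omega)
  obtain ⟨K', j, q, hle, hjq, hqi, hepi, hsplit⟩ :=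
    exists_factor hP0 hcov (S.q ≫ tr G n) (((n + 1 : ℕ) : ℤ) + 1)
  refine ⟨⟨K', hle, q, hqi, hepi, fun i => ?_⟩, j, hjq, hsplit⟩
  obtain ⟨W, e, hW, -⟩ := hsplit i
  exact hiso e.symm (hadd _ _ (S.mem i) hW)

include hP0 hcov hiso hadd in
lemma exists_stage_zero : Nonempty (Stage P G 0) := by
  let Z : CochainComplex A ℤ := 0
  have hZ : ∀ i, IsZero (Z.X i) := fun i =>
    (HomologicalComplex.eval A _ i).map_isZero (isZero_zero _)
  have : Z.IsStrictlyLE (((0 : ℕ) : ℤ) + 1) := (Z.isStrictlyLE_iff _).2 fun i _ => hZ i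
  obtain ⟨K', j, q, hle, -, hqi, hepi, hsplit⟩ :=
    exists_factor hP0 hcov (0 : Z ⟶ G.truncLE (((0 : ℕ) : ℤ) + 1)) (((0 : ℕ) : ℤ) + 1)
  refine ⟨⟨K', hle, q, hqi, hepi, fun i => ?_⟩⟩
  obtain ⟨W, e, hW, -⟩ := hsplit i
  obtain ⟨Z₀, hZ₀, hPZ₀⟩ := hP0
  exact hiso e.symm (hiso (biprod.mapIso (hZ₀.iso (hZ i)) (Iso.refl W)) (hadd _ _ hPZ₀ hW))

/-- The cokernel of a split inclusion. -/
noncomputable def cokernelIso {X Y W : A} (j : X ⟶ Y) (e : Y ≅ X ⊞ W) (h : j ≫ e.hom = biprod.inl) :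
    cokernel j ≅ W where
  hom := cokernel.desc j (e.hom ≫ biprod.snd) (by rw [reassoc_of% h, biprod.inl_snd])
  inv := biprod.inr ≫ e.inv ≫ cokernel.π j
  hom_inv_id := by
    have hj : biprod.inl ≫ e.inv = j := by rw [← h, Category.assoc, e.hom_inv_id, Category.comp_id]
    rw [← cancel_epi (cokernel.π j), cokernel.π_desc_assoc, Category.comp_id, Category.assoc]
    have : biprod.snd ≫ biprod.inr = 𝟙 (X ⊞ W) - biprod.fst ≫ biprod.inl :=
      eq_sub_of_add_eq' biprod.total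
    rw [reassoc_of% this, Preadditive.sub_comp, Category.id_comp, Category.assoc,
      reassoc_of% hj, cokernel.condition, comp_zero, sub_zero, e.hom_inv_id_assoc]
  inv_hom_id := by simp

include hP0 hcov hiso hadd in
/-- The system of resolutions. -/
theorem exists_system [HasColimitsOfShape ℕ A] [HasExactColimitsOfShape ℕ A] :
    ∃ (Kc : ℕ ⥤ CochainComplex A ℤ) (π : ∀ n : ℕ, Kc.obj n ⟶ G.truncLE ((n : ℤ) + 1)),
      (∀ n : ℕ, Kc.map (homOfLE (Nat.le_succ n)) ≫ π (n + 1) ≫ G.ιTruncLE (((n + 1 : ℕ) : ℤ) + 1) =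
        π n ≫ G.ιTruncLE ((n : ℤ) + 1)) ∧
      (∀ n : ℕ, QuasiIso (π n) ∧ ∀ i : ℤ, Epi ((π n).f i)) ∧
      (∀ n : ℕ, ∃ b : ℤ, (Kc.obj n).IsStrictlyLE b) ∧
      (∀ (n : ℕ) (i : ℤ), P ((Kc.obj n).X i)) ∧
      (∀ (n : ℕ) (i : ℤ), ∃ r : (Kc.obj (n + 1)).X i ⟶ (Kc.obj n).X i,
        (Kc.map (homOfLE (Nat.le_succ n))).f i ≫ r = 𝟙 _ ∧
        P (cokernel ((Kc.map (homOfLE (Nat.le_succ n))).f i))) ∧
      ∃ c : colimit Kc ⟶ G,
        (∀ n : ℕ, colimit.ι Kc n ≫ c = π n ≫ G.ιTruncLE ((n : ℤ) + 1)) ∧ QuasiIso c := by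
  choose next hnext using fun (n : ℕ) (S : Stage P G n) => exists_stage_succ G hP0 hcov hiso hadd S
  obtain ⟨S₀⟩ := exists_stage_zero G hP0 hcov hiso hadd
  let S : ∀ n, Stage P G n := fun n => Nat.rec (motive := Stage P G) S₀ next n
  choose j hj hsplit using fun n => hnext n (S n)
  let Kc : ℕ ⥤ CochainComplex A ℤ := Functor.ofSequence (X := fun n => (S n).K) j
  have hmap : ∀ n, Kc.map (homOfLE (Nat.le_succ n)) = j n := fun n =>
    Functor.ofSequence_map_homOfLE_succ _ n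
  let q : ∀ n : ℕ, Kc.obj n ⟶ G := fun n => (S n).q ≫ G.ιTruncLE ((n : ℤ) + 1)
  have hq : ∀ n, Kc.map (homOfLE (Nat.le_succ n)) ≫ q (n + 1) = q n := by
    intro n
    rw [hmap]
    change j n ≫ (S (n + 1)).q ≫ _ = _
    rw [← Category.assoc, hj n, Category.assoc, tr_ι]
    rfl
  let c : Cocone Kc :=
    { pt := G
      ι := NatTrans.ofSequence q fun n => (hq n).trans (Category.comp_id _).symm }
  refine ⟨Kc, fun n => (S n).q, hq, fun n => ⟨(S n).qi, (S n).epi⟩,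
    fun n => ⟨_, (S n).le⟩, fun n i => (S n).mem i, fun n i => ?_,
    colimit.desc Kc c, fun n => colimit.ι_desc c n, ?_⟩
  · obtain ⟨W, e, hW, he⟩ := hsplit n i
    rw [hmap]
    exact ⟨e.hom ≫ biprod.fst, (Category.assoc _ _ _).symm.trans
      ((congrArg (· ≫ biprod.fst) he).trans biprod.inl_fst), hiso (cokernelIso _ e he).symm hW⟩
  rw [quasiIso_iff]
  intro i
  rw [quasiIsoAt_iff_isIso_homologyMap]
  have hlarge : ∀ n : ℕ, i ≤ (n : ℤ) → IsIso (homologyMap (colimit.ι Kc n ≫ colimit.desc Kc c) i) := by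
    intro n hn
    rw [colimit.ι_desc]
    change IsIso (homologyMap ((S n).q ≫ G.ιTruncLE ((n : ℤ) + 1)) i)
    have := (S n).qi
    have := CochainComplex.quasiIsoAt_ιTruncLE G ((n : ℤ) + 1) i (by omega)
    rw [homologyMap_comp]
    infer_instance
  have : Epi (homologyMap (colimit.desc Kc c) i) := by
    have h := hlarge i.toNat (by omega)
    rw [homologyMap_comp] at h
    exact epi_of_epi (homologyMap (colimit.ι Kc i.toNat) i) _
  have : Mono (homologyMap (colimit.desc Kc c) i) := by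
    have : IsConnected ℕ := IsFiltered.isConnected ℕ
    refine Groth.Agent.KFlat.mono_homologyMap_of_isColimit Kc _ (colimit.isColimit Kc) _ i fun n => ?_
    refine ⟨max n i.toNat, homOfLE (le_max_left _ _), fun T x hx => ?_⟩
    have h := hlarge (max n i.toNat) (by omega)
    rw [← cancel_mono (homologyMap (colimit.ι Kc (max n i.toNat) ≫ colimit.desc Kc c) i), zero_comp,
      Category.assoc, ← homologyMap_comp, colimit.w_assoc]
    exact hx
  exact isIso_of_mono_of_epi _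

end Groth.Agent.CplxFactor
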